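import Groth.Agent.GRForms.Top

/-!
# A non-degenerate invariant pairing between two spans of products of flag minors
-/

set_option autoImplicit false

universe u

noncomputable section

namespace Groth.GRForms

open MvPolynomial Finset

variable {n : ℕ}

/-- The first `a` indices. -/
def lo (a : Fin n) : Fin a.val ↪o Fin n := Fin.castLEOrderEmb a.isLt.le

/-- The last `a` indices. -/
def hi (a : Fin n) : Fin a.val ↪o Fin n :=
  OrderEmbedding.ofStrictMono (fun l => ⟨n - a.val + l.val, by omega⟩) fun i j h => by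
    simp only [Fin.mk_lt_mk]; omega

theorem lo_val (a : Fin n) (l : Fin a.val) : (lo a l).val = l.val := rfl

theorem hi_val (a : Fin n) (l : Fin a.val) : (hi a l).val = n - a.val + l.val := rfl

theorem rev_hi (a : Fin n) (l : Fin a.val) : Fin.rev (hi a l) = lo a (Fin.rev l) := by
  ext; simp only [Fin.val_rev, hi_val, lo_val]; omega

theorem rev_lo (a : Fin n) (l : Fin a.val) : Fin.rev (lo a l) = hi a (Fin.rev l) := by
  ext; simp only [Fin.val_rev, hi_val, lo_val]; omega

variable (k : Type u) [Field k]

/-- Power of a product of minors. -/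
def mon (I J : ∀ a : Fin n, Fin a.val ↪o Fin n) (r : ℕ) : EntRing k n :=
  (∏ a : Fin n, minor (I a) (J a)) ^ r

/-- The span of the translates by matrices of determinant one. -/
def orbSpan (I J : ∀ a : Fin n, Fin a.val ↪o Fin n) (r : ℕ) : Submodule k (EntRing k n) :=
  Submodule.span k (Set.range fun g : {g : Matrix (Fin n) (Fin n) k // g.det = 1} => subst g.1 (mon k I J r))

variable {k}

/-- The determinant of the generic matrix. -/
abbrev detP (k : Type u) [Field k] (n : ℕ) : EntRing k n := (gen k n).det

theorem subst_detP (g : Matrix (Fin n) (Fin n) k) : subst g (detP k n) = C g.det * detP k n := by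
  rw [detP, AlgHom.map_det, subst_gen, Matrix.det_mul, RingHom.map_det]
  rfl

theorem detP_eq_minor : detP k n = minor (k := k) (n := n) id id := rfl

theorem mon_isHomogeneous (I J : ∀ a : Fin n, Fin a.val ↪o Fin n) (r : ℕ) :
    (mon k I J r).IsHomogeneous ((∑ a : Fin n, a.val) * r) :=
  (IsHomogeneous.prod _ _ _ fun _ _ => minor_isHomogeneous _ _).pow r

theorem orbSpan_le (I J : ∀ a : Fin n, Fin a.val ↪o Fin n) (r : ℕ) :
    orbSpan k I J r ≤ homogeneousSubmodule (Fin n × Fin n) k ((∑ a : Fin n, a.val) * r) := by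
  rw [orbSpan, Submodule.span_le]
  rintro _ ⟨g, rfl⟩
  exact subst_isHomogeneous g.1 (mon_isHomogeneous I J r)

instance orbSpan_finite (I J : ∀ a : Fin n, Fin a.val ↪o Fin n) (r : ℕ) :
    FiniteDimensional k (orbSpan k I J r) :=
  haveI : FiniteDimensional k (homogeneousSubmodule (Fin n × Fin n) k ((∑ a : Fin n, a.val) * r)) :=
    Module.Finite.iff_fg.2 (homogeneousSubmodule_fg _ _ _)
  Submodule.finiteDimensional_of_le (orbSpan_le I J r)

theorem subst_mem_orbSpan (I J : ∀ a : Fin n, Fin a.val ↪o Fin n) (r : ℕ)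
    {g : Matrix (Fin n) (Fin n) k} (hg : g.det = 1) {P : EntRing k n} (hP : P ∈ orbSpan k I J r) :
    subst g P ∈ orbSpan k I J r := by
  induction hP using Submodule.span_induction with
  | mem x hx =>
    obtain ⟨h, rfl⟩ := hx
    exact Submodule.subset_span ⟨⟨h.1 * g, by rw [Matrix.det_mul, h.2, hg, one_mul]⟩, (subst_subst _ _ _).symm⟩
  | zero => rw [map_zero]; exact zero_mem _
  | add x y _ _ hx hy => rw [map_add]; exact add_mem hx hy
  | smul c x _ hx => rw [map_smul]; exact Submodule.smul_mem _ c hx

theorem degree_total (r : ℕ) :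
    n * r + (∑ a : Fin n, a.val) * r + (∑ a : Fin n, a.val) * r = n * n * r := by
  have h := Finset.sum_range_id_mul_two n
  rw [Fin.sum_univ_eq_sum_range (fun i => i) n]
  rcases n with _ | m
  · simp
  · simp only [Nat.add_sub_cancel] at h
    nlinarith

theorem pairing_isHomogeneous {I J I' J' : ∀ a : Fin n, Fin a.val ↪o Fin n} {r : ℕ}
    {T P P' : EntRing k n} (hT : T.IsHomogeneous (n * r))
    (hP : P ∈ orbSpan k I J r) (hP' : P' ∈ orbSpan k I' J' r) :
    (T * P * P').IsHomogeneous (n * n * r) := by
  rw [← degree_total r]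
  exact (hT.mul (orbSpan_le I J r hP)).mul (orbSpan_le I' J' r hP')

theorem detP_pow_isHomogeneous (r : ℕ) : (detP k n ^ r).IsHomogeneous (n * r) :=
  (minor_isHomogeneous (k := k) (n := n) id id).pow r

theorem mem_orbSpan_self (I J : ∀ a : Fin n, Fin a.val ↪o Fin n) (r : ℕ) :
    mon k I J r ∈ orbSpan k I J r :=
  Submodule.subset_span ⟨⟨1, Matrix.det_one⟩, subst_one _⟩

/-- Every entry occurs exactly once among the diagonals. -/
theorem prod_diagonals {M : Type*} [CommMonoid M] (F : Fin n × Fin n → M) :
    (∏ l, F (l, l)) * (∏ a : Fin n, ∏ l, F (lo a l, hi a l)) * (∏ a : Fin n, ∏ l, F (hi a l, lo a l)) =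
      ∏ z, F z := by
  classical
  have hup : ∀ G : Fin n × Fin n → M, ∏ a : Fin n, ∏ l, G (lo a l, hi a l) =
      ∏ z ∈ Finset.univ.filter (fun z : Fin n × Fin n => z.1 < z.2), G z := by
    intro G
    refine (Finset.prod_sigma (Finset.univ : Finset (Fin n)) (fun a => (Finset.univ : Finset (Fin a.val)))
      fun x => G (lo x.1 x.2, hi x.1 x.2)).symm.trans ?_
    refine Finset.prod_bij (fun x _ => (lo x.1 x.2, hi x.1 x.2)) ?_ ?_ ?_ fun _ _ => rfl
    · intro x _
      have := x.1.isLt
      simp only [Finset.mem_filter, Finset.mem_univ, true_and, Fin.lt_def, lo_val, hi_val]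
      omega
    · rintro ⟨a, l⟩ _ ⟨a', l'⟩ _ h
      have h1 : l.val = l'.val := congrArg (fun z : Fin n × Fin n => z.1.val) h
      have h2 : n - a.val + l.val = n - a'.val + l'.val := congrArg (fun z : Fin n × Fin n => z.2.val) h
      obtain rfl : a = a' := Fin.ext (by have := a.isLt; have := a'.isLt; omega)
      obtain rfl : l = l' := Fin.ext h1
      rfl
    · rintro ⟨s, j⟩ hz
      have hsj : s.val < j.val := (Finset.mem_filter.1 hz).2
      have := j.isLt
      refine ⟨⟨⟨n - (j.val - s.val), by omega⟩, ⟨s.val, by simp only; omega⟩⟩, by simp, ?_⟩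
      ext
      · rfl
      · change n - (n - (j.val - s.val)) + s.val = j.val
        omega
  have hdn : ∏ a : Fin n, ∏ l, F (hi a l, lo a l) =
      ∏ z ∈ Finset.univ.filter (fun z : Fin n × Fin n => z.2 < z.1), F z := by
    refine (hup fun z => F z.swap).trans ?_
    exact Finset.prod_equiv (Equiv.prodComm _ _) (by simp) fun _ _ => rfl
  have hdiag : ∏ l, F (l, l) = ∏ z ∈ Finset.univ.filter (fun z : Fin n × Fin n => z.1 = z.2), F z := by
    refine Finset.prod_bij (fun l _ => (l, l)) (by simp) (fun a _ b _ h => congrArg Prod.fst h) ?_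
      fun _ _ => rfl
    rintro ⟨s, j⟩ hz
    obtain rfl : s = j := (Finset.mem_filter.1 hz).2
    exact ⟨s, Finset.mem_univ _, rfl⟩
  rw [hup F, hdn, hdiag, ← Finset.prod_union, ← Finset.prod_union]
  · refine Finset.prod_congr ?_ fun _ _ => rfl
    ext z
    simp only [Finset.mem_union, Finset.mem_filter, Finset.mem_univ, true_and, iff_true]
    rcases lt_trichotomy z.1 z.2 with h | h | h
    · exact .inl (.inr h)
    · exact .inl (.inl h)
    · exact .inr h
  · rw [Finset.disjoint_left]
    intro z hz hz'
    simp only [Finset.mem_union, Finset.mem_filter, Finset.mem_univ, true_and] at hz hz'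
    rcases hz with h | h <;> omega
  · rw [Finset.disjoint_left]
    intro z hz hz'
    simp only [Finset.mem_filter, Finset.mem_univ, true_and] at hz hz'
    omega

/-- The basic pairing is non-zero. -/
theorem topCoeff_basic (r : ℕ) :
    topCoeff k n r (detP k n ^ r * mon k lo hi r * mon k hi lo r) = 1 := by
  classical
  set w : Fin n × Fin n → ℤ := fun x => -((x.1 : ℤ) * x.2)
  have h1 := lead_minor_diag (k := k) (OrderEmbedding.ofStrictMono id strictMono_id : Fin n ↪o Fin n)
    (OrderEmbedding.ofStrictMono id strictMono_id)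
  have h2 := Lead.prod Finset.univ (fun a : Fin n => minor (k := k) (lo a) (hi a))
    (fun a => ∏ l, X (lo a l, hi a l)) _ fun a _ => lead_minor_diag (lo a) (hi a)
  have h3 := Lead.prod Finset.univ (fun a : Fin n => minor (k := k) (hi a) (lo a))
    (fun a => ∏ l, X (hi a l, lo a l)) _ fun a _ => lead_minor_diag (hi a) (lo a)
  have h := ((h1.mul h2).mul h3).pow r
  simp only [OrderEmbedding.coe_ofStrictMono, id] at h
  rw [show ((∏ l : Fin n, (X (l, l) : EntRing k n)) * (∏ a : Fin n, ∏ l, X (lo a l, hi a l)) *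
      ∏ a : Fin n, ∏ l, X (hi a l, lo a l)) = ∏ z, X z from prod_diagonals X] at h
  rw [show detP k n ^ r * mon k lo hi r * mon k hi lo r =
      1 * ((minor (k := k) (n := n) id id * (∏ a, minor (lo a) (hi a))) * ∏ a, minor (hi a) (lo a)) ^ r by
      rw [one_mul, mul_pow, mul_pow]; rfl,
    topCoeff_apply]
  have hmon : (∏ z, (X z : EntRing k n)) ^ r = monomial (allExp n r) 1 := by
    rw [monomial_allExp, Finset.prod_pow]
  rw [hmon] at h
  have hwt : Finsupp.weight w (allExp n r) = _ := h.1 (d := allExp n r) (by simp)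
  refine (h.coeff_mul_eq (isWeightedHomogeneous_one k w) (allExp n r) (by rw [hwt, add_zero])).trans ?_
  rw [one_mul, coeff_monomial, if_pos rfl]

variable [IsAlgClosed k]

theorem eq_zero_of_forall_eval_det {P : EntRing k n}
    (h : ∀ x : Matrix (Fin n) (Fin n) k, x.det ≠ 0 → eval (fun z : Fin n × Fin n => x z.1 z.2) P = 0) :
    P = 0 := by
  have hd : detP k n ≠ 0 := fun h0 => by
    have := congrArg (eval fun z : Fin n × Fin n => (1 : Matrix (Fin n) (Fin n) k) z.1 z.2) h0
    rw [detP, RingHom.map_det] at this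
    rw [show (eval fun z : Fin n × Fin n => (1 : Matrix (Fin n) (Fin n) k) z.1 z.2).mapMatrix (gen k n) = 1 by
      ext i j; simp] at this
    simp at this
  refine (mul_eq_zero.1 ?_).resolve_left hd
  refine MvPolynomial.funext fun v => ?_
  rw [map_mul, map_zero]
  have hv : v = fun z : Fin n × Fin n => (Matrix.of fun i j => v (i, j)) z.1 z.2 := rfl
  by_cases h0 : (Matrix.of fun i j => v (i, j)).det = 0
  · refine mul_eq_zero_of_left ?_ _
    rw [detP, RingHom.map_det, ← h0]
    congr 1
    ext i j
    simp
  · rw [hv, h _ h0, mul_zero]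

omit [IsAlgClosed k] in
theorem eval_isHomogeneous_smul {σ : Type*} {P : MvPolynomial σ k} {N : ℕ} (hP : P.IsHomogeneous N)
    (c : k) (v : σ → k) : eval (c • v) P = c ^ N * eval v P := by
  rw [eval_eq, eval_eq, Finset.mul_sum]
  refine Finset.sum_congr rfl fun d hd => ?_
  rw [hP.degree_eq_sum_deg_support hd]
  simp only [Pi.smul_apply, smul_eq_mul, mul_pow, Finset.prod_mul_distrib, Finset.prod_pow_eq_pow_sum]
  ring

theorem exists_scalar_det [NeZero n] (x : Matrix (Fin n) (Fin n) k) (hx : x.det ≠ 0) :
    ∃ (c : k) (g : Matrix (Fin n) (Fin n) k), c ≠ 0 ∧ g.det = 1 ∧ x = c • g := by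
  obtain ⟨c, hc⟩ := IsAlgClosed.exists_pow_nat_eq x.det (NeZero.pos n)
  have hc0 : c ≠ 0 := fun h => hx (by rw [← hc, h, zero_pow (NeZero.ne n)])
  refine ⟨c, c⁻¹ • x, hc0, ?_, by rw [smul_smul, mul_inv_cancel₀ hc0, one_smul]⟩
  rw [Matrix.det_smul, Fintype.card_fin, ← hc, inv_pow, inv_mul_cancel₀ (pow_ne_zero n hc0)]

/-- The key non-degeneracy: a translate span element killed by an extremal functional vanishes. -/
theorem eq_zero_of_extremal [NeZero n] (I J : ∀ a : Fin n, Fin a.val ↪o Fin n)
    (hIJ : ∀ a l, Fin.rev (J a l) = I a (Fin.rev l))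
    (ω : Fin n → ℤ) (hω : ∀ a s, (∀ l, I a l ≠ s) → ∀ l, ω (I a l) < ω s) (r : ℕ)
    (Q : EntRing k n) (W : ℤ) (hQW : IsWeightedHomogeneous (fun x : Fin n × Fin n => ω x.1) Q W)
    (hQ : topCoeff k n r (Q * mon k I J r) ≠ 0)
    {P : EntRing k n} (hP : P ∈ orbSpan k I J r)
    (h : ∀ g : Matrix (Fin n) (Fin n) k, g.det = 1 → topCoeff k n r (Q * subst g P) = 0) : P = 0 := by
  classical
  set w : Fin n × Fin n → ℤ := fun x => ω x.1
  -- the functional on a translate
  have hlead : ∀ g : Matrix (Fin n) (Fin n) k,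
      Lead w ((r : ℤ) * ∑ a : Fin n, ∑ l, ω (I a l)) (subst g (mon k I J r))
        (C ((∏ a : Fin n, (g.submatrix (I a) (I a)).det) ^ r) * mon k I J r) := by
    intro g
    have h := (Lead.prod Finset.univ (fun a => subst g (minor (I a) (J a))) _ _
      fun a _ => lead_subst_minor ω (I a).toEmbedding (J a) (hω a) g).pow r
    simp only [mon, map_pow, map_prod, ← mul_pow, ← Finset.prod_mul_distrib]
    exact h
  have hmon : IsWeightedHomogeneous w (mon k I J r) ((r : ℤ) * ∑ a : Fin n, ∑ l, ω (I a l)) := by
    have h := (IsWeightedHomogeneous.prod Finset.univ (fun a : Fin n => minor (k := k) (I a) (J a))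
      (fun a => ∑ l, ω (I a l)) fun a _ => minor_rowHomogeneous ω (I a) (J a)).pow r
    rw [nsmul_eq_mul] at h
    exact h
  have hwt : Finsupp.weight w (allExp n r) = (r : ℤ) * ∑ a : Fin n, ∑ l, ω (I a l) + W := by
    rw [add_comm]
    exact (hQW.mul hmon) hQ
  have hA : ∀ g : Matrix (Fin n) (Fin n) k, topCoeff k n r (Q * subst g (mon k I J r)) =
      (∏ a : Fin n, (g.submatrix (I a) (I a)).det) ^ r * topCoeff k n r (Q * mon k I J r) := by
    intro g
    rw [topCoeff_apply, topCoeff_apply, (hlead g).coeff_mul_eq hQW _ hwt, mul_left_comm, coeff_C_mul]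
  set K : k := (∏ a : Fin n, ((Equiv.Perm.sign (Fin.revPerm (n := a.val)) : ℤ) : k)) ^ r
  refine eq_zero_of_forall_eval_det fun x hx => ?_
  have hrev : (x.submatrix id Fin.rev).det ≠ 0 := by
    rw [show x.submatrix id Fin.rev = x.submatrix id (Fin.revPerm (n := n)) from rfl, Matrix.det_permute']
    refine mul_ne_zero ?_ hx
    rcases Int.units_eq_one_or (Equiv.Perm.sign (Fin.revPerm (n := n))) with e | e <;> simp [e]
  obtain ⟨c, h', hc, hdet, hxc⟩ := exists_scalar_det _ hrev
  have hx' : x = c • h'.submatrix id Fin.rev := by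
    ext i j
    have := congrFun (congrFun hxc i) (Fin.rev j)
    simpa [Matrix.submatrix_apply] using this
  -- the two linear functionals agree on the span up to the constant
  let v : Fin n × Fin n → k := fun z => h'.submatrix id Fin.rev z.1 z.2
  have heq : topCoeff k n r (Q * mon k I J r) * eval v P = K * topCoeff k n r (Q * subst h' P) := by
    clear h
    induction hP using Submodule.span_induction with
    | mem y hy =>
      obtain ⟨g, rfl⟩ := hy
      simp only [v]
      rw [subst_subst, hA, eval_subst, mon, map_pow, map_prod]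
      rw [show g.1 * h'.submatrix id Fin.rev = (g.1 * h').submatrix id Fin.rev by
        ext i j; simp [Matrix.mul_apply]]
      simp only [K, ← mul_pow, ← mul_assoc]
      have : ∀ a : Fin n, eval (fun z : Fin n × Fin n => (g.1 * h').submatrix id Fin.rev z.1 z.2)
          (minor (k := k) (I a) (J a)) =
          ((Equiv.Perm.sign (Fin.revPerm (n := a.val)) : ℤ) : k) * ((g.1 * h').submatrix (I a) (I a)).det := by
        intro a
        rw [minor, RingHom.map_det, ← Matrix.det_permute']
        congr 1
        ext l j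
        simp [hIJ]
      simp only [this, Finset.prod_mul_distrib, mul_pow]
      ring
    | zero => simp
    | add y z _ _ hy hz => simp only [map_add, mul_add, hy, hz]
    | smul d y _ hy =>
      simp only [map_smul, mul_smul_comm, smul_eval]
      rw [smul_eq_mul]
      linear_combination d * hy
  rw [h h' hdet, mul_zero, mul_eq_zero] at heq
  have := heq.resolve_left hQ
  rw [show (fun z : Fin n × Fin n => x z.1 z.2) = c • v by rw [hx']; rfl,
    eval_isHomogeneous_smul (orbSpan_le I J r hP), this, mul_zero]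

variable (p : ℕ) [Fact p.Prime] [CharP k p]

/-- An element of the upper span pairing to zero with the lower span vanishes. -/
theorem upper_nondegenerate [NeZero n] {r e : ℕ} (hr : r + 1 = p ^ e) {P : EntRing k n}
    (hP : P ∈ orbSpan k lo hi r)
    (h : ∀ y ∈ orbSpan k hi lo r, topCoeff k n r (detP k n ^ r * P * y) = 0) : P = 0 := by
  have hQW := (minor_rowHomogeneous (k := k) (n := n) (fun s => (s : ℤ)) id id).pow r
  have hQW' := (IsWeightedHomogeneous.prod Finset.univ (fun a : Fin n => minor (k := k) (hi a) (lo a))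
    _ fun a _ => minor_rowHomogeneous (fun s => (s : ℤ)) (hi a) (lo a)).pow r
  refine eq_zero_of_extremal lo hi rev_hi (fun s => (s : ℤ)) (fun a s hs l => ?_) r
    (detP k n ^ r * mon k hi lo r) _ (hQW.mul hQW') ?_ hP fun g hg => ?_
  · have : a.val ≤ s.val := by
      by_contra hlt
      exact hs ⟨s.val, by omega⟩ (Fin.ext rfl)
    simp only [lo_val]
    omega
  · rw [mul_right_comm, topCoeff_basic]
    exact one_ne_zero
  · have hginv : g⁻¹.det = 1 := by rw [Matrix.det_nonsing_inv, hg, Ring.inverse_one]
    have hy := subst_mem_orbSpan hi lo r hginv (mem_orbSpan_self hi lo r)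
    have := h _ hy
    rw [← topCoeff_subst p hr g hg (pairing_isHomogeneous (detP_pow_isHomogeneous r) hP hy), map_mul (subst g),
      map_mul (subst g), map_pow (subst g), subst_detP, hg, map_one, one_mul, subst_subst,
      Matrix.nonsing_inv_mul _ (by rw [hg]; exact isUnit_one), subst_one, mul_right_comm] at this
    exact this

/-- An element of the lower span pairing to zero with the upper span vanishes. -/
theorem lower_nondegenerate [NeZero n] {r e : ℕ} (hr : r + 1 = p ^ e) {P : EntRing k n}
    (hP : P ∈ orbSpan k hi lo r)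
    (h : ∀ y ∈ orbSpan k lo hi r, topCoeff k n r (detP k n ^ r * y * P) = 0) : P = 0 := by
  have hQW := (minor_rowHomogeneous (k := k) (n := n) (fun s => -(s : ℤ)) id id).pow r
  have hQW' := (IsWeightedHomogeneous.prod Finset.univ (fun a : Fin n => minor (k := k) (lo a) (hi a))
    _ fun a _ => minor_rowHomogeneous (fun s => -(s : ℤ)) (lo a) (hi a)).pow r
  refine eq_zero_of_extremal hi lo rev_lo (fun s => -(s : ℤ)) (fun a s hs l => ?_) r
    (detP k n ^ r * mon k lo hi r) _ (hQW.mul hQW') ?_ hP fun g hg => ?_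
  · have : s.val < n - a.val := by
      by_contra hle
      exact hs ⟨s.val - (n - a.val), by omega⟩ (Fin.ext (by simp only [hi_val]; omega))
    simp only [hi_val]
    omega
  · rw [topCoeff_basic]
    exact one_ne_zero
  · have hginv : g⁻¹.det = 1 := by rw [Matrix.det_nonsing_inv, hg, Ring.inverse_one]
    have hy := subst_mem_orbSpan lo hi r hginv (mem_orbSpan_self lo hi r)
    have := h _ hy
    rw [← topCoeff_subst p hr g hg (pairing_isHomogeneous (detP_pow_isHomogeneous r) hy hP), map_mul (subst g),
      map_mul (subst g), map_pow (subst g), subst_detP, hg, map_one, one_mul, subst_subst,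
      Matrix.nonsing_inv_mul _ (by rw [hg]; exact isUnit_one), subst_one] at this
    exact this

/-- The bases of the two spans with invertible Gram matrix at the power of the determinant. -/
theorem exists_gram [NeZero n] {r e : ℕ} (hr : r + 1 = p ^ e) :
    ∃ (N : ℕ) (b : Module.Basis (Fin N) k (orbSpan k (n := n) lo hi r))
      (b' : Module.Basis (Fin N) k (orbSpan k (n := n) hi lo r)), 0 < N ∧
      (Matrix.of fun i j => topCoeff k n r (detP k n ^ r * (b i : EntRing k n) * (b' j : EntRing k n))).det ≠ 0 := by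
  classical
  let B : orbSpan k (n := n) lo hi r →ₗ[k] Module.Dual k (orbSpan k (n := n) hi lo r) :=
    LinearMap.mk₂ k (fun x y => topCoeff k n r (detP k n ^ r * (x : EntRing k n) * (y : EntRing k n)))
      (fun _ _ _ => by simp [mul_add, add_mul]) (fun _ _ _ => by simp)
      (fun _ _ _ => by simp [mul_add]) (fun _ _ _ => by simp)
  have hB : Function.Injective B := (injective_iff_map_eq_zero B).2 fun x hx =>
    Subtype.ext (upper_nondegenerate p hr x.2 fun y hy => LinearMap.congr_fun hx ⟨y, hy⟩)
  have hB' : Function.Injective B.flip := (injective_iff_map_eq_zero B.flip).2 fun x hx =>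
    Subtype.ext (lower_nondegenerate p hr x.2 fun y hy => LinearMap.congr_fun hx ⟨y, hy⟩)
  have e1 : Module.finrank k (orbSpan k (n := n) lo hi r) = Module.finrank k (orbSpan k (n := n) hi lo r) := by
    refine le_antisymm ?_ ?_
    · exact (LinearMap.finrank_le_finrank_of_injective hB).trans Subspace.dual_finrank_eq.le
    · exact (LinearMap.finrank_le_finrank_of_injective hB').trans Subspace.dual_finrank_eq.le
  let b := Module.finBasis k (orbSpan k (n := n) lo hi r)
  let b' := (Module.finBasis k (orbSpan k (n := n) hi lo r)).reindex (finCongr e1.symm)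
  refine ⟨_, b, b', ?_, fun hdet => ?_⟩
  · refine Module.finrank_pos_iff_exists_ne_zero.2 ⟨⟨_, mem_orbSpan_self lo hi r⟩, fun h0 => ?_⟩
    have := topCoeff_basic (k := k) (n := n) r
    rw [show mon k (n := n) lo hi r = 0 from congrArg Subtype.val h0] at this
    simp at this
  · obtain ⟨c, hc, hc0⟩ := Matrix.exists_vecMul_eq_zero_iff.2 hdet
    apply hc
    have hx : B (∑ i, c i • b i) = 0 := b'.ext fun j => by
      have := congrFun hc0 j
      simpa [B, Matrix.vecMul, dotProduct] using this
    have hx0 := (injective_iff_map_eq_zero B).1 hB _ hx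
    funext i
    exact Fintype.linearIndependent_iff.1 b.linearIndependent c hx0 i

end Groth.GRForms
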