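import Groth.Agent.GRForms.Pairing
import Groth.Agent.Misc6.PointSets
import Groth.Agent.Misc6.SemistableSmall
import Groth.Agent.S12559

/-!
# Semistable forms under the special linear group in any characteristic

A form is semistable as soon as the origin is not in the closure of its orbit.
-/

set_option autoImplicit false

universe u

noncomputable section

namespace Groth.GRForms

open MvPolynomial Finset CoordGrp
open Groth.Misc6 Groth.Misc6.PointSets

variable {k : Type u} [Field k] {n d : ℕ}

theorem pt_orb (g : Matrix (Fin n) (Fin n) k) (hg : g.det = 1) (a : FormIdx n d → k)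
    (F : FormRing k n d) :
    SLn.pt n k g hg (orb k n d a F) = eval (FormAction.move k n d g a) F := by
  have : (SLn.pt n k g hg).comp (orb k n d a) = aeval (FormAction.move k n d g a) := by
    refine MvPolynomial.algHom_ext fun m => ?_
    rw [AlgHom.comp_apply, orb_X, aeval_X]
    simp only [SLn.pt_X, Algebra.algebraMap_self, RingHom.id_apply]
    rfl
  simpa [aeval_eq_eval] using AlgHom.congr_fun this F

theorem move_smul_right (c : k) (M : Matrix (Fin n) (Fin n) k) (a : FormIdx n d → k) :
    FormAction.move k n d M (c • a) = c • FormAction.move k n d M a := by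
  funext m
  simp [FormAction.move, Finset.mul_sum, mul_assoc]

theorem move_smul_left (c : k) (M : Matrix (Fin n) (Fin n) k) (a : FormIdx n d → k) :
    FormAction.move k n d (c • M) a = c ^ d • FormAction.move k n d M a := by
  funext m
  simp only [FormAction.move, FormAction.aeval_formCoeff, Pi.smul_apply, smul_eq_mul, Finset.mul_sum]
  refine Finset.sum_congr rfl fun l _ => ?_
  have h : ∀ i, (∑ j, C (c * M j i) * X j : MvPolynomial (Fin n) k) =
      C c * ∑ j, C (M j i) * X j := fun i => by
    simp [Finset.mul_sum, mul_assoc]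
  simp only [show ∀ j i, (c • M : Matrix (Fin n) (Fin n) k) j i = c * M j i from fun _ _ => rfl, h, mul_pow, Finset.prod_mul_distrib, ← map_pow, ← map_prod, coeff_C_mul, Finset.prod_pow_eq_pow_sum]
  rw [show ∑ i, m.1 i = d by rw [← Finsupp.degree_eq_sum]; exact m.2]
  ring

theorem move_zero_form (M : Matrix (Fin n) (Fin n) k) :
    FormAction.move k n d M (0 : FormIdx n d → k) = 0 := by
  funext m
  simp [FormAction.move]

/-- Scaling determines the homogeneous components. -/
theorem eval_homogeneousComponent_congr [Infinite k] {σ : Type*} (P : MvPolynomial σ k) {v v' : σ → k}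
    (h : ∀ c : k, eval (c • v) P = eval (c • v') P) (N : ℕ) :
    eval v (homogeneousComponent N P) = eval v' (homogeneousComponent N P) := by
  classical
  let Q : (σ → k) → Polynomial k := fun v =>
    ∑ i ∈ Finset.range (P.totalDegree + 1), Polynomial.monomial i (eval v (homogeneousComponent i P))
  have hQ : ∀ v c, (Q v).eval c = eval (c • v) P := by
    intro v c
    conv_rhs => rw [← P.sum_homogeneousComponent, map_sum]
    simp only [Q, Polynomial.eval_finsetSum, Polynomial.eval_monomial,
      eval_isHomogeneous_smul (homogeneousComponent_isHomogeneous _ _), mul_comm]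
  have hc : ∀ v, (Q v).coeff N = eval v (homogeneousComponent N P) := by
    intro v
    simp only [Q, Polynomial.finsetSum_coeff, Polynomial.coeff_monomial, Finset.sum_ite_eq',
      Finset.mem_range]
    split_ifs with hN
    · rfl
    · rw [homogeneousComponent_eq_zero N P (by omega), map_zero]
  rw [← hc, ← hc, Polynomial.funext (p := Q v) (q := Q v') fun c => by rw [hQ, hQ, h]]

/-- A polynomial which scales with degree `N` is homogeneous of degree `N`. -/
theorem isHomogeneous_of_scaling [Infinite k] {σ : Type*} (P : MvPolynomial σ k) (N : ℕ)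
    (h : ∀ (c : k) (v : σ → k), eval (c • v) P = c ^ N * eval v P) : P.IsHomogeneous N := by
  classical
  have hP : P = homogeneousComponent N P := by
    refine MvPolynomial.funext fun v => ?_
    let Q : Polynomial k :=
      ∑ i ∈ Finset.range (P.totalDegree + 1), Polynomial.monomial i (eval v (homogeneousComponent i P))
    have hQ : Q = Polynomial.monomial N (eval v P) := by
      refine Polynomial.funext fun c => ?_
      conv_rhs => rw [Polynomial.eval_monomial, mul_comm, ← h, ← P.sum_homogeneousComponent, map_sum]
      simp only [Q, Polynomial.eval_finsetSum, Polynomial.eval_monomial,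
        eval_isHomogeneous_smul (homogeneousComponent_isHomogeneous _ _), mul_comm]
    have := congrArg (fun q => Polynomial.coeff q N) hQ
    simp only [Q, Polynomial.finsetSum_coeff, Polynomial.coeff_monomial, Finset.sum_ite_eq',
      Finset.mem_range, if_true] at this
    rw [← this]
    split_ifs with hN
    · rfl
    · rw [homogeneousComponent_eq_zero N P (by omega), map_zero]
  rw [hP]
  exact homogeneousComponent_isHomogeneous _ _

/-- Only the degrees divisible by the prime-to-`p` part survive on an orbit. -/
theorem exists_components [IsAlgClosed k] [NeZero n] (p : ℕ) [Fact p.Prime] [CharP k p]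
    (a : FormIdx n d → k) (F : FormRing k n d)
    (hF : ∀ g : Matrix (Fin n) (Fin n) k, g.det = 1 → eval (FormAction.move k n d g a) F = 1) :
    ∃ (S : Finset ℕ) (q : ℕ), 0 < q ∧ (∀ i ∈ S, n ∣ d * i * q) ∧
      ∀ g : Matrix (Fin n) (Fin n) k, g.det = 1 →
        ∑ i ∈ S, eval (FormAction.move k n d g a) (homogeneousComponent i F) ^ q = 1 := by
  classical
  obtain ⟨e, m, hm, hn⟩ := Nat.exists_eq_pow_mul_and_not_dvd (NeZero.ne n) p (Fact.out : p.Prime).ne_one
  have hmk : (m : k) ≠ 0 := fun h => hm ((CharP.cast_eq_zero_iff k p m).1 h)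
  have : NeZero m := ⟨fun h => hmk (by rw [h]; simp)⟩
  have : NeZero (m : k) := ⟨hmk⟩
  obtain ⟨ζ, hζ⟩ := HasEnoughRootsOfUnity.exists_primitiveRoot k m
  have : ExpChar k p := ExpChar.prime Fact.out
  refine ⟨(Finset.range (F.totalDegree + 1)).filter fun i => m ∣ d * i, p ^ e,
    pow_pos (Fact.out : p.Prime).pos _, fun i hi => ?_, fun g hg => ?_⟩
  · rw [hn, mul_comm (p ^ e)]
    exact mul_dvd_mul_right (Finset.mem_filter.1 hi).2 _
  · set f : ℕ → k := fun i => eval (FormAction.move k n d g a) (homogeneousComponent i F)
    have h1 : ∀ t : ℕ, ∑ i ∈ Finset.range (F.totalDegree + 1), (ζ ^ (d * i)) ^ t * f i = 1 := by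
      intro t
      have h := hF ((ζ ^ t) • g) (by
        rw [Matrix.det_smul, Fintype.card_fin, hg, mul_one, ← pow_mul, mul_comm,
          pow_mul, (hζ.pow_eq_one_iff_dvd n).2 (Dvd.intro_left _ hn.symm), one_pow])
      rw [move_smul_left, ← F.sum_homogeneousComponent, map_sum] at h
      rw [← h]
      refine Finset.sum_congr rfl fun i _ => ?_
      rw [eval_isHomogeneous_smul (homogeneousComponent_isHomogeneous _ _), ← pow_mul, ← pow_mul, ← pow_mul]
      congr 2
      ring
    have h2 := Finset.sum_congr (s₁ := Finset.range m) rfl fun t _ => h1 t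
    rw [Finset.sum_comm] at h2
    have h3 : ∀ i, ∑ t ∈ Finset.range m, (ζ ^ (d * i)) ^ t * f i = if m ∣ d * i then (m : k) * f i else 0 := by
      intro i
      rw [← Finset.sum_mul]
      split_ifs with hi
      · simp [(hζ.pow_eq_one_iff_dvd (d * i)).2 hi]
      · rw [geom_sum_eq (fun h => hi ((hζ.pow_eq_one_iff_dvd _).1 h)), ← pow_mul, mul_comm (d * i), pow_mul,
          hζ.pow_eq_one, one_pow, sub_self, zero_div, zero_mul]
    simp only [h3] at h2
    rw [← Finset.sum_filter, ← Finset.mul_sum, Finset.sum_const, Finset.card_range, nsmul_eq_mul] at h2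
    rw [← sum_pow_char_pow p e, mul_left_cancel₀ hmk h2, one_pow]

/-- The polynomial in a form and a matrix, at a form. -/
def atForm (z : FormIdx n d → k) : MvPolynomial (FormIdx n d ⊕ (Fin n × Fin n)) k →ₐ[k] EntRing k n :=
  aeval (Sum.elim (fun l => C (z l)) X)

theorem eval_atForm (z : FormIdx n d → k) (T : MvPolynomial (FormIdx n d ⊕ (Fin n × Fin n)) k)
    (M : Matrix (Fin n) (Fin n) k) :
    eval (fun x : Fin n × Fin n => M x.1 x.2) (atForm z T) = eval (Sum.elim z fun x => M x.1 x.2) T := by
  have : (aeval fun x : Fin n × Fin n => M x.1 x.2).comp (atForm z) =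
      aeval (Sum.elim z fun x : Fin n × Fin n => M x.1 x.2) := by
    refine MvPolynomial.algHom_ext fun x => ?_
    rcases x with l | x <;> simp [atForm]
  simpa [aeval_eq_eval] using AlgHom.congr_fun this T

theorem eval_detP (M : Matrix (Fin n) (Fin n) k) :
    eval (fun x : Fin n × Fin n => M x.1 x.2) (detP k n) = M.det := by
  rw [detP, RingHom.map_det]
  congr 1
  ext i j
  simp

theorem ext_of_eval_matrix [Infinite k] {P Q : EntRing k n}
    (h : ∀ M : Matrix (Fin n) (Fin n) k,
      eval (fun x : Fin n × Fin n => M x.1 x.2) P = eval (fun x : Fin n × Fin n => M x.1 x.2) Q) : P = Q :=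
  MvPolynomial.funext fun v => h (Matrix.of fun i j => v (i, j))

/-- An invariant not vanishing at a form whose orbit closure avoids the origin. -/
theorem exists_invariant_ne_zero [IsAlgClosed k] [NeZero n] (p : ℕ) [Fact p.Prime] [CharP k p]
    (a : FormIdx n d → k)
    (hcl : ¬ @GLin.InOrbitClosure k _ (SLn n k) _ _ (FormRing k n d) _ _
      (GLin.comodAlong ((SLn.mkHom n k).comp (Mat.toGLn n k)) (formsCoact k n d))
      (GLin.isCoactAlg_comodAlong ((SLn.mkHom n k).comp (Mat.toGLn n k)) (formsCoact k n d)
        (formsCoact_isCoactAlg k n d))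
      (GLin.vecPt k (FormIdx n d) a) (GLin.vecPt k (FormIdx n d) fun _ => (0 : k))) :
    ∃ F ∈ @GLin.invariants k _ (SLn n k) _ _ (FormRing k n d) _ _
      (GLin.comodAlong ((SLn.mkHom n k).comp (Mat.toGLn n k)) (formsCoact k n d))
      (GLin.isCoactAlg_comodAlong ((SLn.mkHom n k).comp (Mat.toGLn n k)) (formsCoact k n d)
        (formsCoact_isCoactAlg k n d)), ∃ D : ℕ, 0 < D ∧ F.IsHomogeneous D ∧ eval a F ≠ 0 := by
  classical
  have : Infinite k := IsAlgClosed.instInfinite
  obtain ⟨F₀, hF₀, hF₀'⟩ := SetLike.not_le_iff_exists.1 hcl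
  rw [RingHom.mem_ker] at hF₀ hF₀'
  set c₀ : k := eval (0 : FormIdx n d → k) F₀
  have hc₀ : c₀ ≠ 0 := by
    simpa [c₀, GLin.vecPt, aeval_eq_eval, Pi.zero_def] using hF₀'
  set F : FormRing k n d := 1 - C c₀⁻¹ * F₀
  have hF : ∀ g : Matrix (Fin n) (Fin n) k, g.det = 1 → eval (FormAction.move k n d g a) F = 1 := by
    intro g hg
    have h : eval (FormAction.move k n d g a) F₀ = 0 := by
      rw [← pt_orb g hg a F₀]
      exact (congrArg (SLn.pt n k g hg) hF₀).trans (map_zero _)
    simp [F, h]
  have hF0 : homogeneousComponent 0 F = 0 := by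
    rw [homogeneousComponent_zero, ← constantCoeff_eq, ← eval_zero]
    simp only [F, map_sub, map_one, map_mul, eval_C]
    rw [← map_mul, show eval (0 : FormIdx n d → k) F₀ = c₀ from rfl, inv_mul_cancel₀ hc₀, map_one, sub_self]
  obtain ⟨S, q, hq, hdvd, hS⟩ := exists_components p a F hF
  set e := (∑ i ∈ S, d * i * q / n) + 1
  set r := p ^ e - 1
  have hr : r + 1 = p ^ e := Nat.succ_pred_eq_of_pos (pow_pos (Fact.out : p.Prime).pos _)
  have hrle : ∀ i ∈ S, d * i * q / n ≤ r := fun i hi => by
    have h1 := Finset.single_le_sum (fun i _ => Nat.zero_le (d * i * q / n)) hi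
    have h2 : e < p ^ e := Nat.lt_pow_self (Fact.out : p.Prime).one_lt
    omega
  set T : MvPolynomial (FormIdx n d ⊕ (Fin n × Fin n)) k :=
    ∑ i ∈ S, FormAction.toSum k n d (formsCoactAlg k n d (homogeneousComponent i F ^ q)) *
      rename Sum.inr (detP k n) ^ (r - d * i * q / n)
  have hT : ∀ z M, eval (fun x : Fin n × Fin n => M x.1 x.2) (atForm z T) =
      ∑ i ∈ S, eval (FormAction.move k n d M z) (homogeneousComponent i F) ^ q *
        M.det ^ (r - d * i * q / n) := by
    intro z M
    rw [eval_atForm, map_sum]
    refine Finset.sum_congr rfl fun i _ => ?_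
    rw [map_mul, FormAction.eval_toSum, map_pow (eval _) (rename _ _), eval_rename, Sum.elim_comp_inr,
      eval_detP, map_pow]
  have hhom : ∀ z, (atForm z T).IsHomogeneous (n * r) := by
    intro z
    refine isHomogeneous_of_scaling _ _ fun c v => ?_
    let M : Matrix (Fin n) (Fin n) k := Matrix.of fun i j => v (i, j)
    change eval (fun x : Fin n × Fin n => (c • M) x.1 x.2) _ = c ^ (n * r) * eval (fun x : Fin n × Fin n => M x.1 x.2) _
    rw [hT, hT, Finset.mul_sum]
    refine Finset.sum_congr rfl fun i hi => ?_
    rw [move_smul_left, eval_isHomogeneous_smul (homogeneousComponent_isHomogeneous _ _), Matrix.det_smul,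
      Fintype.card_fin]
    have h1 := Nat.div_mul_cancel (hdvd i hi)
    have h2 := Nat.sub_add_cancel (hrle i hi)
    rw [show n * r = d * i * q + n * (r - d * i * q / n) by
      conv_lhs => rw [← h2, mul_add, mul_comm n (d * i * q / n), h1]
      ring]
    ring
  have ha : atForm a T = detP k n ^ r := by
    refine sub_eq_zero.1 (eq_zero_of_forall_eval_det fun x hx => ?_)
    obtain ⟨c, g, hc, hg, rfl⟩ := exists_scalar_det x hx
    have h1 : eval (fun z : Fin n × Fin n => g z.1 z.2) (atForm a T) = 1 := by
      rw [hT]
      simpa [hg] using hS g hg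
    rw [map_sub, map_pow, eval_detP, Matrix.det_smul, hg, mul_one, Fintype.card_fin,
      show (fun z : Fin n × Fin n => (c • g) z.1 z.2) = c • fun z : Fin n × Fin n => g z.1 z.2 from rfl,
      eval_isHomogeneous_smul (hhom a), h1, mul_one, ← pow_mul, sub_self]
  have hmove : ∀ (g : Matrix (Fin n) (Fin n) k), g.det = 1 → ∀ z,
      atForm (FormAction.move k n d g z) T = subst g (atForm z T) := by
    intro g hg z
    refine ext_of_eval_matrix fun M => ?_
    rw [eval_subst, hT, hT, FormAction.move_move, Matrix.det_mul, hg, one_mul]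
  obtain ⟨N, b, b', hN, hdet⟩ := exists_gram (k := k) (n := n) p hr
  let Bz : (FormIdx n d → k) → (orbSpan k (n := n) lo hi r →ₗ[k] orbSpan k (n := n) hi lo r →ₗ[k] k) :=
    fun z => LinearMap.mk₂ k (fun x y => topCoeff k n r (atForm z T * (x : EntRing k n) * (y : EntRing k n)))
      (fun _ _ _ => by simp [mul_add, add_mul]) (fun _ _ _ => by simp)
      (fun _ _ _ => by simp [mul_add]) (fun _ _ _ => by simp)
  let G : (FormIdx n d → k) → Matrix (Fin N) (Fin N) k := fun z => LinearMap.toMatrix₂ b b' (Bz z)
  have hGapply : ∀ z i j, G z i j = topCoeff k n r (atForm z T * (b i : EntRing k n) * (b' j : EntRing k n)) :=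
    fun z i j => by simp [G, Bz, LinearMap.toMatrix₂_apply]
  have hGa : (G a).det ≠ 0 := by
    convert hdet using 2
    ext i j
    rw [hGapply, ha]
    rfl
  -- the Gram determinant as a polynomial in the form
  let ψ : MvPolynomial (FormIdx n d ⊕ (Fin n × Fin n)) k →ₐ[k] MvPolynomial (Fin n × Fin n) (FormRing k n d) :=
    aeval (Sum.elim (fun l => C (MvPolynomial.X l)) MvPolynomial.X)
  let f : FormRing k n d := Matrix.det (Matrix.of fun i j : Fin N =>
    (ψ T * MvPolynomial.map C ((b i : EntRing k n) * (b' j : EntRing k n))).coeff (allExp n r))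
  have hf : ∀ z, eval z f = (G z).det := by
    intro z
    rw [RingHom.map_det]
    congr 1
    ext i j
    rw [RingHom.mapMatrix_apply, Matrix.map_apply, Matrix.of_apply, hGapply, topCoeff_apply,
      ← MvPolynomial.coeff_map, map_mul, MvPolynomial.map_map,
      show (eval z).comp C = RingHom.id k from RingHom.ext fun x => eval_C x, MvPolynomial.map_id, mul_assoc]
    congr 2
    have : ∀ U, MvPolynomial.map (eval z) (ψ U) = atForm z U := by
      intro U
      induction U using MvPolynomial.induction_on with
      | C x => simp [ψ, atForm, MvPolynomial.algebraMap_apply]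
      | add U V hU hV => simp only [map_add, hU, hV]
      | mul_X U x hU =>
        simp only [map_mul, hU]
        congr 1
        rcases x with l | x <;> simp [ψ, atForm]
    exact this T
  have hf0 : eval (0 : FormIdx n d → k) f = 0 := by
    rw [hf]
    have : atForm (0 : FormIdx n d → k) T = 0 := by
      refine ext_of_eval_matrix fun M => ?_
      rw [hT, map_zero, move_zero_form]
      refine Finset.sum_eq_zero fun i hi => ?_
      rcases Nat.eq_zero_or_pos i with rfl | hi0
      · rw [hF0, map_zero, zero_pow hq.ne', zero_mul]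
      · rw [eval_zero, constantCoeff_eq, (homogeneousComponent_isHomogeneous i F).coeff_eq_zero (d := 0)
          (by simp; omega), zero_pow hq.ne', zero_mul]
    exact Matrix.det_eq_zero_of_row_eq_zero ⟨0, hN⟩ fun j => by simp [hGapply, this]
  have hfg : ∀ g : Matrix (Fin n) (Fin n) k, g.det = 1 → ∀ z,
      eval (FormAction.move k n d g z) f = eval z f := by
    intro g hg
    have hginv : g⁻¹.det = 1 := by rw [Matrix.det_nonsing_inv, hg, Ring.inverse_one]
    let U : orbSpan k (n := n) lo hi r →ₗ[k] orbSpan k (n := n) lo hi r :=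
      (subst g⁻¹).toLinearMap.restrict fun x hx => subst_mem_orbSpan lo hi r hginv hx
    let V : orbSpan k (n := n) hi lo r →ₗ[k] orbSpan k (n := n) hi lo r :=
      (subst g⁻¹).toLinearMap.restrict fun x hx => subst_mem_orbSpan hi lo r hginv hx
    have key : ∀ z, (G (FormAction.move k n d g z)).det =
        (LinearMap.toMatrix b b U).det * (G z).det * (LinearMap.toMatrix b' b' V).det := by
      intro z
      have e1 : Bz (FormAction.move k n d g z) = (Bz z).compl₁₂ U V := by
        refine LinearMap.ext fun x => LinearMap.ext fun y => ?_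
        simp only [Bz, LinearMap.mk₂_apply, LinearMap.compl₁₂_apply, hmove g hg z]
        rw [← topCoeff_subst p hr g⁻¹ hginv
          (pairing_isHomogeneous (subst_isHomogeneous g (hhom z)) x.2 y.2), map_mul (subst g⁻¹),
          map_mul (subst g⁻¹), subst_subst, Matrix.mul_nonsing_inv _ (by rw [hg]; exact isUnit_one), subst_one]
        rfl
      change (LinearMap.toMatrix₂ b b' (Bz _)).det = _
      rw [e1, LinearMap.toMatrix₂_compl₁₂ b b', Matrix.det_mul, Matrix.det_mul, Matrix.det_transpose]
    intro z
    have h1 := key a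
    rw [show G (FormAction.move k n d g a) = G a by
      refine Matrix.ext fun i j => ?_
      rw [hGapply, hGapply, hmove g hg a, ha, map_pow, subst_detP, hg, map_one, one_mul]] at h1
    have h2 : (LinearMap.toMatrix b b U).det * (LinearMap.toMatrix b' b' V).det = 1 :=
      mul_right_cancel₀ hGa (by linear_combination -h1)
    rw [hf, hf, key z]
    linear_combination (G z).det * h2
  have hcomp : ∀ g : Matrix (Fin n) (Fin n) k, g.det = 1 → ∀ z D,
      eval (FormAction.move k n d g z) (homogeneousComponent D f) = eval z (homogeneousComponent D f) :=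
    fun g hg z D => eval_homogeneousComponent_congr f (fun c => by rw [← move_smul_right, hfg g hg]) D
  obtain ⟨D, hD, hDa⟩ : ∃ D, 0 < D ∧ eval a (homogeneousComponent D f) ≠ 0 := by
    by_contra hno
    push Not at hno
    apply hGa
    rw [← hf, ← f.sum_homogeneousComponent, map_sum]
    refine Finset.sum_eq_zero fun i _ => ?_
    rcases Nat.eq_zero_or_pos i with rfl | hi
    · rw [homogeneousComponent_zero, eval_C, ← constantCoeff_eq, ← eval_zero, hf0]
    · exact hno i hi
  refine ⟨homogeneousComponent D f ^ n, FormAction.mem_invariants_of_forall_move (d * D) fun M z => ?_,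
    D * n, Nat.mul_pos hD (NeZero.pos n), (homogeneousComponent_isHomogeneous D f).pow n, by
      rw [map_pow]; exact pow_ne_zero _ hDa⟩
  have hpoly : atForm z (FormAction.toSum k n d (formsCoactAlg k n d (homogeneousComponent D f ^ n))) =
      detP k n ^ (d * D) * C (eval z (homogeneousComponent D f ^ n)) := by
    refine sub_eq_zero.1 (eq_zero_of_forall_eval_det fun x hx => ?_)
    obtain ⟨c, g, hc, hg, rfl⟩ := exists_scalar_det x hx
    simp only [map_sub, eval_atForm, FormAction.eval_toSum, map_mul, map_pow, eval_detP, eval_C]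
    rw [move_smul_left, eval_isHomogeneous_smul (homogeneousComponent_isHomogeneous _ _), hcomp g hg,
      Matrix.det_smul, hg, Fintype.card_fin]
    ring
  have := congrArg (eval fun x : Fin n × Fin n => M x.1 x.2) hpoly
  simp only [eval_atForm, FormAction.eval_toSum, map_mul, eval_C] at this
  rw [this, map_pow (eval _) (detP k n), eval_detP]

/-- Semistability from the orbit closure, in any characteristic. -/
theorem isSemistableVec_of_not_inOrbitClosure [IsAlgClosed k] [NeZero n] (a : FormIdx n d → k)
    (hcl : ¬ @GLin.InOrbitClosure k _ (SLn n k) _ _ (FormRing k n d) _ _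
      (GLin.comodAlong ((SLn.mkHom n k).comp (Mat.toGLn n k)) (formsCoact k n d))
      (GLin.isCoactAlg_comodAlong ((SLn.mkHom n k).comp (Mat.toGLn n k)) (formsCoact k n d)
        (formsCoact_isCoactAlg k n d))
      (GLin.vecPt k (FormIdx n d) a) (GLin.vecPt k (FormIdx n d) fun _ => (0 : k))) :
    @GLin.IsSemistableVec k _ (SLn n k) _ _ (FormIdx n d)
      (GLin.comodAlong ((SLn.mkHom n k).comp (Mat.toGLn n k)) (formsCoact k n d))
      (GLin.isCoactAlg_comodAlong ((SLn.mkHom n k).comp (Mat.toGLn n k)) (formsCoact k n d)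
        (formsCoact_isCoactAlg k n d)) a := by
  obtain ⟨p, hp⟩ := CharP.exists k
  rcases CharP.char_is_prime_or_zero k p with hp' | rfl
  · haveI : Fact p.Prime := ⟨hp'⟩
    obtain ⟨F, hF, D, hD, hFD, hne⟩ := exists_invariant_ne_zero p a hcl
    exact fun hnull => hne (hnull F hF D hD hFD)
  · haveI : CharZero k := CharP.charP_to_charZero k
    let := GLin.comodAlong ((SLn.mkHom n k).comp (Mat.toGLn n k)) (formsCoact k n d)
    have := GLin.isCoactAlg_comodAlong ((SLn.mkHom n k).comp (Mat.toGLn n k)) (formsCoact k n d)
      (formsCoact_isCoactAlg k n d)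
    have : Algebra.FiniteType k (SLn n k) :=
      ⟨(Set.finite_range fun ij : Fin n × Fin n => SLn.X (k := k) ij.1 ij.2).toFinset,
        eq_top_of_X_mem _ fun i j => Algebra.subset_adjoin (by simp)⟩
    exact (SemistableSmall.isSemistableVec_iff (Groth.Agent.S12559.result k n)
      (GLin.isLinear_comodAlong _ _ (formsCoact_isLinear k n d)) a).2 hcl

end Groth.GRForms
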