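import Groth.Agent.GRForms.Weights

/-!
# The top coefficient of the truncated polynomial ring on matrix entries

For `r = q - 1` with `q` a power of the characteristic, the coefficient of the monomial with all
exponents `r` is invariant under substitution by matrices of determinant one.
-/

set_option autoImplicit false

universe u

noncomputable section

namespace Groth.GRForms

open MvPolynomial Finset

variable {k : Type u} [Field k] {n : ℕ}

theorem eval_subst (g : Matrix (Fin n) (Fin n) k) (P : EntRing k n) (x : Matrix (Fin n) (Fin n) k) :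
    eval (fun z : Fin n × Fin n => x z.1 z.2) (subst g P) =
      eval (fun z : Fin n × Fin n => (g * x) z.1 z.2) P := by
  have : (aeval fun z : Fin n × Fin n => x z.1 z.2).comp (subst g) =
      aeval fun z : Fin n × Fin n => (g * x) z.1 z.2 := by
    refine MvPolynomial.algHom_ext fun z => ?_
    simp [subst, Matrix.mul_apply]
  simpa [aeval_eq_eval] using AlgHom.congr_fun this P

theorem subst_subst (A B : Matrix (Fin n) (Fin n) k) (P : EntRing k n) :
    subst B (subst A P) = subst (A * B) P := by
  have : (subst B).comp (subst A) = subst (A * B) := by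
    refine MvPolynomial.algHom_ext fun z => ?_
    simp only [AlgHom.comp_apply, subst, aeval_X, map_sum, map_mul, aeval_C, MvPolynomial.algebraMap_eq,
      Matrix.mul_apply, Finset.mul_sum, Finset.sum_mul]
    rw [Finset.sum_comm]
    exact Finset.sum_congr rfl fun l _ => Finset.sum_congr rfl fun l' _ => by ring
  exact AlgHom.congr_fun this P

theorem subst_one (P : EntRing k n) : subst (1 : Matrix (Fin n) (Fin n) k) P = P := by
  have : subst (1 : Matrix (Fin n) (Fin n) k) = AlgHom.id k _ := by
    refine MvPolynomial.algHom_ext fun z => ?_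
    simp [subst, Matrix.one_apply]
  exact AlgHom.congr_fun this P

theorem subst_isHomogeneous (g : Matrix (Fin n) (Fin n) k) {P : EntRing k n} {N : ℕ}
    (hP : P.IsHomogeneous N) : (subst g P).IsHomogeneous N := by
  have h := hP.aeval (fun x : Fin n × Fin n => ∑ l, C (g x.1 l) * X (l, x.2)) fun x =>
    IsHomogeneous.sum _ _ 1 fun l _ => isHomogeneous_C_mul_X _ _
  simpa [subst] using h

variable (n) in
/-- The monomial with all exponents `r`. -/
def allExp (r : ℕ) : Fin n × Fin n →₀ ℕ := Finsupp.equivFunOnFinite.symm fun _ => r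

variable (k n) in
/-- The top coefficient. -/
def topCoeff (r : ℕ) : EntRing k n →ₗ[k] k := MvPolynomial.lcoeff k (allExp n r)

theorem topCoeff_apply (r : ℕ) (P : EntRing k n) : topCoeff k n r P = P.coeff (allExp n r) := rfl

theorem monomial_allExp (r : ℕ) :
    monomial (allExp n r) (1 : k) = ∏ z : Fin n × Fin n, X z ^ r := by
  rw [monomial_eq, map_one, one_mul, Finsupp.prod_fintype _ _ fun _ => pow_zero _]
  rfl

variable (k n) in
/-- The ideal of `(r + 1)`-st powers of the entries. -/
def powIdeal (r : ℕ) : Ideal (EntRing k n) := Ideal.span (Set.range fun z => X z ^ (r + 1))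

theorem topCoeff_mul_eq_zero {r : ℕ} {P : EntRing k n} (hP : P ∈ powIdeal k n r) (R : EntRing k n) :
    topCoeff k n r (R * P) = 0 := by
  induction hP using Submodule.span_induction generalizing R with
  | mem x hx =>
    obtain ⟨z, rfl⟩ := hx
    dsimp only
    rw [topCoeff_apply, X_pow_eq_monomial, mul_comm, coeff_monomial_mul', if_neg]
    intro h
    have := h z
    simp [allExp] at this
  | zero => rw [mul_zero, map_zero]
  | add x y _ _ hx hy => rw [mul_add, map_add, hx, hy, add_zero]
  | smul c x _ hx => rw [smul_eq_mul, ← mul_assoc]; exact hx _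

theorem topCoeff_of_mem {r : ℕ} {P : EntRing k n} (hP : P ∈ powIdeal k n r) :
    topCoeff k n r P = 0 := by
  simpa using topCoeff_mul_eq_zero hP 1

theorem topCoeff_congr {r : ℕ} {P Q : EntRing k n}
    (h : Ideal.Quotient.mk (powIdeal k n r) P = Ideal.Quotient.mk (powIdeal k n r) Q) :
    topCoeff k n r P = topCoeff k n r Q := by
  rw [← sub_eq_zero, ← map_sub]
  exact topCoeff_of_mem (Ideal.Quotient.eq.1 h)

theorem exists_large {r : ℕ} {e : Fin n × Fin n →₀ ℕ} (hdeg : e.degree = n * n * r)
    (hne : e ≠ allExp n r) : ∃ z, r + 1 ≤ e z := by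
  by_contra hno
  push Not at hno
  apply hne
  have hle : ∀ z ∈ (Finset.univ : Finset (Fin n × Fin n)), e z ≤ r := fun z _ => by
    have := hno z; omega
  have hsum : ∑ z, e z = ∑ _z : Fin n × Fin n, r := by
    rw [← Finsupp.degree_eq_sum, hdeg]
    simp
  ext z
  exact (Finset.sum_eq_sum_iff_of_le hle).1 hsum z (Finset.mem_univ _)

variable (p : ℕ) [Fact p.Prime] [CharP k p]

theorem subst_mem_powIdeal {r e : ℕ} (hr : r + 1 = p ^ e) (g : Matrix (Fin n) (Fin n) k)
    (z : Fin n × Fin n) : subst g (X z ^ (r + 1)) ∈ powIdeal k n r := by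
  have : CharP (EntRing k n) p := inferInstance
  have : ExpChar (EntRing k n) p := ExpChar.prime Fact.out
  rw [map_pow, subst, aeval_X, hr, sum_pow_char_pow p e]
  refine Ideal.sum_mem _ fun l _ => ?_
  rw [mul_pow, ← hr]
  exact Ideal.mul_mem_left _ _ (Ideal.subset_span ⟨(l, z.2), rfl⟩)

/-- The top coefficient transforms by the top coefficient of the top monomial. -/
theorem topCoeff_subst_eq_mul {r e : ℕ} (hr : r + 1 = p ^ e) (g : Matrix (Fin n) (Fin n) k)
    {P : EntRing k n} (hP : P.IsHomogeneous (n * n * r)) :
    topCoeff k n r (subst g P) =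
      topCoeff k n r P * topCoeff k n r (subst g (monomial (allExp n r) 1)) := by
  classical
  have key : ∀ d : Fin n × Fin n →₀ ℕ, d.degree = n * n * r →
      topCoeff k n r (subst g (monomial d 1)) = (if d = allExp n r then 1 else 0) *
        topCoeff k n r (subst g (monomial (allExp n r) 1)) := by
    intro d hdeg
    by_cases hd' : d = allExp n r
    · rw [if_pos hd', one_mul, hd']
    · obtain ⟨z, hz⟩ := exists_large hdeg hd'
      have hfac : monomial d (1 : k) = monomial (d - Finsupp.single z (r + 1)) 1 * X z ^ (r + 1) := by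
        rw [X_pow_eq_monomial, monomial_mul, one_mul, tsub_add_cancel_of_le (Finsupp.single_le_iff.2 hz)]
      rw [if_neg hd', zero_mul, hfac, map_mul,
        topCoeff_mul_eq_zero (subst_mem_powIdeal p hr g z)]
  conv_lhs => rw [P.as_sum]
  conv_rhs => rw [P.as_sum]
  simp only [map_sum, Finset.sum_mul]
  refine Finset.sum_congr rfl fun d hd => ?_
  have hdeg : d.degree = n * n * r := by
    by_contra hne
    exact (MvPolynomial.mem_support_iff.1 hd) (hP.coeff_eq_zero hne)
  rw [show monomial d (P.coeff d) = P.coeff d • monomial d (1 : k) by rw [smul_monomial, smul_eq_mul, mul_one],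
    map_smul, map_smul, map_smul, key d hdeg, topCoeff_apply (P := monomial d 1), coeff_monomial,
    smul_eq_mul, smul_eq_mul, mul_assoc]

theorem topCoeff_subst_allExp {r e : ℕ} (hr : r + 1 = p ^ e) (h : Matrix (Fin n) (Fin n) k)
    (hdet : h.det = 1) : topCoeff k n r (subst h (monomial (allExp n r) 1)) = 1 := by
  classical
  have hhom : ∀ M : Matrix (Fin n) (Fin n) k,
      (subst M (monomial (allExp n r) (1 : k))).IsHomogeneous (n * n * r) := fun M =>
    subst_isHomogeneous M (isHomogeneous_monomial _ (by
      simp [Finsupp.degree_eq_sum, allExp]))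
  refine Matrix.diagonal_transvection_induction
    (fun M => topCoeff k n r (subst M (monomial (allExp n r) (1 : k))) = 1) h ?_ ?_ ?_
  · intro D hD
    rw [hdet, Matrix.det_diagonal] at hD
    have : subst (Matrix.diagonal D) (monomial (allExp n r) (1 : k)) =
        C (∏ z : Fin n × Fin n, D z.1 ^ r) * monomial (allExp n r) 1 := by
      rw [monomial_allExp, map_prod, map_prod, ← Finset.prod_mul_distrib]
      refine Finset.prod_congr rfl fun z _ => ?_
      rw [map_pow, map_pow, ← mul_pow]
      congr 1
      simp [subst, Matrix.diagonal_apply, apply_ite C, ite_mul]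
    rw [this, topCoeff_apply, coeff_C_mul, coeff_monomial, if_pos rfl, mul_one]
    rw [Fintype.prod_prod_type]
    simp only [Finset.prod_const, Finset.card_univ, Fintype.card_fin, Finset.prod_pow, hD, one_pow]
  · intro t
    rw [monomial_allExp, map_prod, topCoeff_congr (Q := ∏ z : Fin n × Fin n, X z ^ r),
      ← monomial_allExp, topCoeff_apply, coeff_monomial, if_pos rfl]
    set π := Ideal.Quotient.mk (powIdeal k n r)
    have hnull : ∀ z : Fin n × Fin n, π (X z) ^ (r + 1) = 0 := fun z => by
      rw [← map_pow]
      exact Ideal.Quotient.eq_zero_iff_mem.2 (Ideal.subset_span ⟨z, rfl⟩)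
    have hval : ∀ z : Fin n × Fin n, subst t.toMatrix (X z : EntRing k n) =
        if z.1 = t.i then X z + C t.c * X (t.j, z.2) else X z := by
      intro z
      simp only [subst, aeval_X, Matrix.TransvectionStruct.toMatrix, Matrix.transvection,
        Matrix.add_apply, Matrix.one_apply, map_add, add_mul, Finset.sum_add_distrib]
      rw [Finset.sum_eq_single z.1 (fun l _ hl => by simp [Ne.symm hl]) (by simp)]
      by_cases hz : z.1 = t.i
      · rw [if_pos hz, Finset.sum_eq_single t.j
          (fun l _ hl => by simp [Ne.symm hl]) (by simp)]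
        simp [hz]
        exact Prod.ext hz.symm rfl
      · rw [if_neg hz, Finset.sum_eq_zero fun l _ => by simp [Ne.symm hz]]
        simp
    simp only [map_prod, map_pow, hval]
    rw [Fintype.prod_prod_type_right, Fintype.prod_prod_type_right]
    refine Finset.prod_congr rfl fun c _ => ?_
    rw [← Finset.mul_prod_erase Finset.univ _ (Finset.mem_univ t.i),
      ← Finset.mul_prod_erase Finset.univ (fun s => π (X (s, c)) ^ r) (Finset.mem_univ t.i)]
    have hrest : ∏ s ∈ Finset.univ.erase t.i, π (if s = t.i then X (s, c) + C t.c * X (t.j, c) else X (s, c)) ^ r =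
        ∏ s ∈ Finset.univ.erase t.i, π (X (s, c)) ^ r :=
      Finset.prod_congr rfl fun s hs => by rw [if_neg (Finset.ne_of_mem_erase hs)]
    rw [hrest, if_pos rfl, map_add, map_mul]
    have hj : t.j ∈ Finset.univ.erase t.i :=
      Finset.mem_erase.2 ⟨t.hij.symm, Finset.mem_univ _⟩
    rw [← Finset.mul_prod_erase _ _ hj, ← mul_assoc, ← mul_assoc]
    congr 1
    obtain ⟨R, hR⟩ := sub_dvd_pow_sub_pow (π (X (t.i, c)) + π (C t.c) * π (X (t.j, c))) (π (X (t.i, c))) r
    rw [add_sub_cancel_left] at hR
    rw [eq_add_of_sub_eq hR, add_mul]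
    have := hnull (t.j, c)
    linear_combination (π (C t.c) * R) * this
  · intro A B hA hB
    rw [← subst_subst, topCoeff_subst_eq_mul p hr B (hhom A), hA, hB, one_mul]

/-- The top coefficient of a homogeneous polynomial of top degree is invariant. -/
theorem topCoeff_subst {r e : ℕ} (hr : r + 1 = p ^ e) (g : Matrix (Fin n) (Fin n) k) (hg : g.det = 1)
    {P : EntRing k n} (hP : P.IsHomogeneous (n * n * r)) :
    topCoeff k n r (subst g P) = topCoeff k n r P := by
  rw [topCoeff_subst_eq_mul p hr g hP, topCoeff_subst_allExp p hr g hg, mul_one]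

end Groth.GRForms
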