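import Mathlib

/-!
# Weights of minors of the generic square matrix

Leading parts of minors, and of products of minors, for weights on the entries.
-/

set_option autoImplicit false

universe u

noncomputable section

namespace Groth.GRForms

open MvPolynomial Finset

variable {k : Type u} [CommRing k] {n : ℕ} {σ : Type}

/-- All monomials of `P` have weight at least `m`. -/
def Above (w : σ → ℤ) (m : ℤ) (P : MvPolynomial σ k) : Prop :=
  ∀ e, P.coeff e ≠ 0 → m ≤ Finsupp.weight w e

/-- `P` is `Q`, of weight `m`, plus monomials of larger weight. -/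
def Lead (w : σ → ℤ) (m : ℤ) (P Q : MvPolynomial σ k) : Prop :=
  IsWeightedHomogeneous w Q m ∧ Above w (m + 1) (P - Q)

namespace Above

variable {w : σ → ℤ} {m m' : ℤ} {P Q : MvPolynomial σ k}

theorem zero : Above w m (0 : MvPolynomial σ k) := fun e h => absurd (coeff_zero e) h

theorem mono (h : Above w m P) (hle : m' ≤ m) : Above w m' P := fun e he => hle.trans (h e he)

theorem of_isWeightedHomogeneous (h : IsWeightedHomogeneous w P m) : Above w m P :=
  fun _ he => (h he).ge

theorem add (hP : Above w m P) (hQ : Above w m Q) : Above w m (P + Q) := fun e he => by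
  by_cases h : P.coeff e = 0
  · exact hQ e fun h' => he (by rw [coeff_add, h, h', add_zero])
  · exact hP e h

theorem sum {ι : Type*} (s : Finset ι) (f : ι → MvPolynomial σ k) (h : ∀ i ∈ s, Above w m (f i)) :
    Above w m (∑ i ∈ s, f i) :=
  Finset.sum_induction f (Above w m) (fun _ _ => add) zero h

theorem mul (hP : Above w m P) (hQ : Above w m' Q) : Above w (m + m') (P * Q) := fun e he => by
  classical
  rw [coeff_mul] at he
  obtain ⟨⟨a, b⟩, hab, hne⟩ := Finset.exists_ne_zero_of_sum_ne_zero he
  rw [← Finset.HasAntidiagonal.mem_antidiagonal.1 hab, map_add]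
  exact add_le_add (hP a (left_ne_zero_of_mul hne)) (hQ b (right_ne_zero_of_mul hne))

end Above

namespace Lead

variable {w : σ → ℤ} {m m' : ℤ} {P Q P' Q' : MvPolynomial σ k}

theorem above (h : Lead w m P Q) : Above w m P := by
  have := (Above.of_isWeightedHomogeneous h.1).add (h.2.mono (by omega))
  rwa [add_sub_cancel] at this

theorem self (h : IsWeightedHomogeneous w P m) : Lead w m P P :=
  ⟨h, by rw [sub_self]; exact Above.zero⟩

theorem mul (h : Lead w m P Q) (h' : Lead w m' P' Q') : Lead w (m + m') (P * P') (Q * Q') := by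
  refine ⟨h.1.mul h'.1, ?_⟩
  rw [show P * P' - Q * Q' = (P - Q) * P' + Q * (P' - Q') by ring]
  refine Above.add ((h.2.mul h'.above).mono (by omega)) ?_
  exact ((Above.of_isWeightedHomogeneous h.1).mul h'.2).mono (by omega)

theorem prod {ι : Type*} (s : Finset ι) (f g : ι → MvPolynomial σ k) (d : ι → ℤ)
    (h : ∀ i ∈ s, Lead w (d i) (f i) (g i)) : Lead w (∑ i ∈ s, d i) (∏ i ∈ s, f i) (∏ i ∈ s, g i) := by
  classical
  induction s using Finset.induction_on with
  | empty => simpa using self (isWeightedHomogeneous_one k w)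
  | insert a s ha ih =>
    rw [Finset.sum_insert ha, Finset.prod_insert ha, Finset.prod_insert ha]
    exact (h a (Finset.mem_insert_self a s)).mul (ih fun i hi => h i (Finset.mem_insert_of_mem hi))

theorem pow (h : Lead w m P Q) : ∀ r : ℕ, Lead w (r * m) (P ^ r) (Q ^ r)
  | 0 => by simpa using self (isWeightedHomogeneous_one k w)
  | r + 1 => by
    rw [pow_succ, pow_succ, Nat.cast_succ, add_mul, one_mul]
    exact (h.pow r).mul h

/-- The coefficient at a monomial of the leading weight, after multiplying by a homogeneous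
polynomial. -/
theorem coeff_mul_eq {W : ℤ} {R : MvPolynomial σ k} (h : Lead w m P Q)
    (hR : IsWeightedHomogeneous w R W) (t : σ →₀ ℕ) (ht : Finsupp.weight w t = m + W) :
    (R * P).coeff t = (R * Q).coeff t := by
  have hA := (Above.of_isWeightedHomogeneous hR).mul h.2
  rw [← sub_eq_zero, ← coeff_sub, ← mul_sub]
  by_contra hne
  have := hA t hne
  omega

end Lead

variable (k n) in
/-- The polynomial ring in the entries of an `n × n` matrix. -/
abbrev EntRing := MvPolynomial (Fin n × Fin n) k

variable (k n) in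
/-- The generic matrix. -/
abbrev gen : Matrix (Fin n) (Fin n) (EntRing k n) := Matrix.mvPolynomialX (Fin n) (Fin n) k

/-- Substitution of the left multiplication by a matrix. -/
def subst (g : Matrix (Fin n) (Fin n) k) : EntRing k n →ₐ[k] EntRing k n :=
  aeval fun x => ∑ l, C (g x.1 l) * X (l, x.2)

theorem subst_gen (g : Matrix (Fin n) (Fin n) k) :
    (subst g).mapMatrix (gen k n) = g.map C * gen k n := by
  ext s j
  simp [subst, Matrix.mul_apply]

/-- A minor of the generic matrix. -/
def minor {a : ℕ} (I J : Fin a → Fin n) : EntRing k n := ((gen k n).submatrix I J).det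

theorem minor_isHomogeneous {a : ℕ} (I J : Fin a → Fin n) :
    (minor (k := k) I J).IsHomogeneous a := by
  rw [minor, Matrix.det_apply']
  refine IsHomogeneous.sum _ _ _ fun p _ => ?_
  rw [← map_intCast (C : k →+* EntRing k n)]
  refine IsHomogeneous.C_mul ?_ _
  have h := IsHomogeneous.prod (σ := Fin n × Fin n) Finset.univ
    (fun l => ((gen k n).submatrix I J) (p l) l) (fun _ => 1) fun l _ => isHomogeneous_X k _
  simpa using h

theorem minor_rowHomogeneous {a : ℕ} (ω : Fin n → ℤ) (I J : Fin a → Fin n) :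
    IsWeightedHomogeneous (fun x : Fin n × Fin n => ω x.1) (minor (k := k) I J) (∑ l, ω (I l)) := by
  rw [minor, Matrix.det_apply']
  refine IsWeightedHomogeneous.sum _ _ _ fun p _ => ?_
  rw [← map_intCast (C : k →+* EntRing k n)]
  refine IsWeightedHomogeneous.C_mul ?_ _
  have h := IsWeightedHomogeneous.prod (R := k) Finset.univ
    (fun l => ((gen k n).submatrix I J) (p l) l) (fun l => ω (I (p l)))
    (w := fun x : Fin n × Fin n => ω x.1) fun l _ =>
      isWeightedHomogeneous_X k (fun x : Fin n × Fin n => ω x.1) (I (p l), J l)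
  rwa [Equiv.sum_comp p (fun l => ω (I l))] at h

theorem sum_lt_sum_of_threshold {a : ℕ} (ω : Fin n → ℤ) (I f : Fin a ↪ Fin n)
    (hI : ∀ s, (∀ l, I l ≠ s) → ∀ l, ω (I l) < ω s) (hne : ∃ l, ∀ l', I l' ≠ f l) :
    ∑ l, ω (I l) < ∑ l, ω (f l) := by
  classical
  set A := (Finset.univ : Finset (Fin a)).map I
  set B := (Finset.univ : Finset (Fin a)).map f
  have hA : ∑ l, ω (I l) = ∑ s ∈ A, ω s := (Finset.sum_map _ _ _).symm
  have hB : ∑ l, ω (f l) = ∑ s ∈ B, ω s := (Finset.sum_map _ _ _).symm
  rw [hA, hB, ← Finset.sum_sdiff_lt_sum_sdiff]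
  have hc : (A \ B).card = (B \ A).card := Finset.card_sdiff_comm (by simp [A, B])
  obtain ⟨l, hl⟩ := hne
  have hne' : (B \ A).Nonempty := ⟨f l, by simp [A, B, hl]⟩
  obtain ⟨s₀, hs₀, hmin⟩ := (B \ A).exists_min_image ω hne'
  have hlt : ∀ x ∈ A \ B, ω x < ω s₀ := by
    intro x hx
    obtain ⟨l', -, rfl⟩ := Finset.mem_map.1 (Finset.mem_sdiff.1 hx).1
    refine hI s₀ (fun l'' h => ?_) l'
    exact (Finset.mem_sdiff.1 hs₀).2 (Finset.mem_map.2 ⟨l'', Finset.mem_univ _, h⟩)
  calc ∑ x ∈ A \ B, ω x < ∑ x ∈ A \ B, ω s₀ :=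
        Finset.sum_lt_sum_of_nonempty (Finset.card_pos.1 (by rw [hc]; exact hne'.card_pos)) hlt
    _ = ∑ x ∈ B \ A, ω s₀ := by simp only [Finset.sum_const, hc]
    _ ≤ ∑ x ∈ B \ A, ω x := Finset.sum_le_sum hmin

/-- Minors of a substituted matrix: the part of least row weight. -/
theorem lead_subst_minor {a : ℕ} (ω : Fin n → ℤ) (I : Fin a ↪ Fin n) (J : Fin a → Fin n)
    (hI : ∀ s, (∀ l, I l ≠ s) → ∀ l, ω (I l) < ω s) (g : Matrix (Fin n) (Fin n) k) :
    Lead (fun x : Fin n × Fin n => ω x.1) (∑ l, ω (I l)) (subst g (minor I J))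
      (C (g.submatrix I I).det * minor I J) := by
  classical
  refine ⟨(minor_rowHomogeneous ω I J).C_mul _, ?_⟩
  let D := (Matrix.detRowAlternating (n := Fin a) (R := EntRing k n)).toMultilinearMap
  let v : Fin a → Fin n → Fin a → EntRing k n := fun l s c => C (g (I l) s) * X (s, J c)
  have e1 : subst g (minor I J) = ∑ f : Fin a → Fin n, D fun l => v l (f l) := by
    rw [minor, AlgHom.map_det, ← D.map_sum v]
    change Matrix.det _ = Matrix.det _
    congr 1
    ext l c
    simp [v, subst, Finset.sum_apply]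
  set S : Finset (Fin a → Fin n) := Fintype.piFinset fun _ => Finset.univ.map I
  have e2 : C (g.submatrix I I).det * minor I J = ∑ f ∈ S, D fun l => v l (f l) := by
    rw [← D.map_sum_finset v fun _ => Finset.univ.map I, minor, RingHom.map_det, ← Matrix.det_mul]
    change Matrix.det _ = Matrix.det _
    congr 1
    ext l c
    simp [v, Matrix.mul_apply, Finset.sum_apply, Finset.sum_map]
  rw [e1, e2, ← Finset.sum_sdiff (Finset.subset_univ S), add_sub_cancel_right]
  refine Above.sum _ _ fun f hf => ?_
  have e3 : D (fun l => v l (f l)) = (∏ l, C (g (I l) (f l))) * minor f J := by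
    have h := D.map_smul_univ (fun l => C (g (I l) (f l))) fun l c => X (f l, J c)
    exact h
  rw [e3]
  by_cases hinj : Function.Injective f
  · have hlt := sum_lt_sum_of_threshold ω I ⟨f, hinj⟩ hI (by
      simp only [S, Finset.mem_sdiff, Finset.mem_univ, true_and, Fintype.mem_piFinset, not_forall,
        Finset.mem_map, not_exists] at hf
      exact hf)
    rw [← map_prod]
    exact (Above.of_isWeightedHomogeneous ((minor_rowHomogeneous ω f J).C_mul _)).mono
      (Int.add_one_le_iff.2 hlt)
  · obtain ⟨l, l', hll, hne⟩ := Function.not_injective_iff.1 hinj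
    rw [minor, Matrix.det_zero_of_row_eq hne (funext fun c => by simp [hll]), mul_zero]
    exact Above.zero

/-- Minors with increasing rows and columns: the diagonal has strictly least Monge weight. -/
theorem lead_minor_diag {a : ℕ} (I J : Fin a ↪o Fin n) :
    Lead (fun x : Fin n × Fin n => -((x.1 : ℤ) * x.2)) (∑ l, -((I l : ℤ) * (J l : ℤ)))
      (minor (k := k) I J) (∏ l, X (I l, J l)) := by
  classical
  set w : Fin n × Fin n → ℤ := fun x => -((x.1 : ℤ) * x.2)
  refine ⟨IsWeightedHomogeneous.prod _ _ _ fun l _ => isWeightedHomogeneous_X k w _, ?_⟩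
  rw [minor, Matrix.det_apply', ← Finset.sum_erase_add _ _ (Finset.mem_univ (1 : Equiv.Perm (Fin a)))]
  have e1 : ((Equiv.Perm.sign (1 : Equiv.Perm (Fin a)) : ℤ) : EntRing k n) *
      ∏ l, ((gen k n).submatrix I J) ((1 : Equiv.Perm (Fin a)) l) l = ∏ l, X (I l, J l) := by
    simp
  rw [e1, add_sub_cancel_right]
  refine Above.sum _ _ fun p hp => ?_
  rw [← map_intCast (C : k →+* EntRing k n)]
  have hmono : Monovary (fun l : Fin a => (I l : ℤ)) fun l => (J l : ℤ) := by
    intro i j hij
    have h1 : J i < J j := by simpa using hij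
    simpa using I.monotone (J.lt_iff_lt.1 h1).le
  have hlt : ∑ l, (I (p l) : ℤ) * (J l : ℤ) < ∑ l, (I l : ℤ) * (J l : ℤ) := by
    rw [hmono.sum_comp_perm_mul_lt_sum_mul_iff]
    intro hmv
    apply (Finset.mem_erase.1 hp).1
    have hm : Monotone p := fun i j hij => by
      rcases hij.lt_or_eq with hij | rfl
      · have := hmv (i := i) (j := j) (by simpa using J.strictMono hij)
        simpa using this
      · exact le_rfl
    ext l
    have := (hm.strictMono_of_injective p.injective).range_inj strictMono_id |>.1 (by simp)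
    simpa using congrArg (fun q : Fin a → Fin a => (q l : ℕ)) this
  refine (Above.of_isWeightedHomogeneous (m := ∑ l, -((I (p l) : ℤ) * (J l : ℤ))) ?_).mono ?_
  · exact IsWeightedHomogeneous.C_mul (IsWeightedHomogeneous.prod _ _ _ fun l _ =>
      isWeightedHomogeneous_X k w _) _
  · simp only [Finset.sum_neg_distrib]
    omega

end Groth.GRForms
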